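import Groth.Agent.AlgGrp.K554.HomogProp
import Groth.Agent.CalgB.ProjField
import Groth.Agent.Etrest.ProperOver

/-!
# Proper homogeneous spaces are projective

`P` a proper group scheme over any field (possibly non-reduced and non-connected), `K` a closed subgroup: the
homogeneous space `P/K` is projective.
-/

set_option autoImplicit false
universe u
open CategoryTheory CategoryTheory.Limits MonoidalCategory CartesianMonoidalCategory MonObj GrpObj
  AlgebraicGeometry
open Groth.Agent

namespace K554.HomogAmple

open Groth.Agent.Agf.H585.QuotBc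

/-- **Proper homogeneous spaces carry an ample module.** -/
theorem exists_isAmple_of_isQuotient {k : Type u} [Field k] {P K Q : Over (Spec (CommRingCat.of k))} [GrpObj P]
    [GrpObj K] [IsProper P.hom] (h : K ⟶ P) [IsMonHom h] [IsClosedImmersion h.left] (a : AlgGrp.Action P Q)
    (o : 𝟙_ (Over (Spec (CommRingCat.of k))) ⟶ Q) (hq : AGF.IsQuotient h Q a o) :
    ∃ L : Q.left.Modules, CohB1.IsAmple L := by
  have hsep : IsSeparated Q.hom := Groth.Agent.Agf.H586.QuotSep.isSeparated_of_isQuotient h a o hq
  have hQf : LocallyOfFiniteType Q.hom := hq.1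
  let kb := AlgebraicClosure k
  let p : Spec (CommRingCat.of kb) ⟶ Spec (CommRingCat.of k) :=
    Spec.map (CommRingCat.ofHom (algebraMap k kb))
  have hq' := isQuotient_bc p hq
  have h1 : IsProper (Red.bc p P).hom := inferInstanceAs (IsProper (pullback.snd P.hom p))
  have h2 : IsSeparated (Red.bc p Q).hom := inferInstanceAs (IsSeparated (pullback.snd Q.hom p))
  have h3 : LocallyOfFiniteType (Red.bc p Q).hom := hq'.1
  obtain ⟨B, _, _, _, φ, hφ⟩ := HomogProp.exists_affine (bcAct p a) (bcPt p o) hq'.2.1 hq'.2.2.1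
  obtain ⟨L, hL⟩ := S1841.result kb B
  have h4 := Sga5.AmpleFib.isAmple_pullback φ hL
  exact VarietyA.AmpleField.exists_isAmple k kb Q.hom _ h4

/-- **Proper homogeneous spaces are projective.** -/
theorem exists_closedImmersion_of_isQuotient {k : Type u} [Field k] {P K Q : Over (Spec (CommRingCat.of k))} [GrpObj P]
    [GrpObj K] [IsProper P.hom] (h : K ⟶ P) [IsMonHom h] [IsClosedImmersion h.left] (a : AlgGrp.Action P Q)
    (o : 𝟙_ (Over (Spec (CommRingCat.of k))) ⟶ Q) (hq : AGF.IsQuotient h Q a o) :
    ∃ (d : ℕ) (c : Q.left ⟶ CohB1.ProjSpace d k), IsClosedImmersion c ∧ c ≫ CohB1.ProjSpace.toSpec d k = Q.hom := by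
  have hsep : IsSeparated Q.hom := Groth.Agent.Agf.H586.QuotSep.isSeparated_of_isQuotient h a o hq
  have hQf : LocallyOfFiniteType Q.hom := hq.1
  have hs : Surjective (a.orbitMap o).left := hq.2.2.1
  have hpr : IsProper ((a.orbitMap o).left ≫ Q.hom) := by rw [Over.w]; infer_instance
  have hQ : IsProper Q.hom := Etrest.ProperOver.isProper_of_surjective' (a.orbitMap o).left Q.hom
  exact CalgB.ProjField.exists_closedImmersion_projSpace Q.hom (exists_isAmple_of_isQuotient h a o hq)

end K554.HomogAmple
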