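import Groth.Agent.AGF.K206.OrbRed
import Groth.Agent.AlgGrp.K395.Transl
import Groth.Agent.AbVar.K508.Base
import Groth.Agent.AbVar.K519.SubAV
import Groth.Agent.AbVar.K523.KerSq
import Groth.Agent.NonAbH1.K554.StabAff
import Groth.Agent.RedSub.H650.QuotPts
import Groth.Agent.Agf.H586.QuotSep
import Groth.Agent.Agf.H585.QuotBc
import Groth.Agent.Grpsch.FrobSch
import Groth.Agent.Grpsch.AmpComp
import Groth.Agent.Sga3C.HomogIrr
import Groth.Agent.FlatB.GeomRed
import Groth.Agent.S1841

/-!
# Proper homogeneous spaces over an algebraically closed field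

`exists_affine`: `K` algebraically closed, `P` a proper group scheme acting on a separated `Q` with flat and surjective
orbit map: there is an affine morphism from `Q` to a group scheme of finite type (an abelian variety).
-/

set_option autoImplicit false
universe u
open CategoryTheory CategoryTheory.Limits MonoidalCategory CartesianMonoidalCategory MonObj GrpObj
  AlgebraicGeometry
open Groth.Agent

namespace K554.HomogProp

variable {K : Type u} [Field K]

theorem isClosedImmersion_pt {X : Over (Spec (CommRingCat.of K))} [IsSeparated X.hom]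
    (x : 𝟙_ (Over (Spec (CommRingCat.of K))) ⟶ X) : IsClosedImmersion x.left := by
  have h2 : IsClosedImmersion (x.left ≫ X.hom) := by
    rw [Over.w]
    change IsClosedImmersion (𝟙 (Spec (CommRingCat.of K)))
    infer_instance
  exact IsClosedImmersion.of_comp _ X.hom

/-- Pullback squares from points. -/
lemma isPullback_of_pts {C : Type*} [Category* C] {A B B' D : C} {f : A ⟶ B} {g : A ⟶ B'} {h : B ⟶ D}
    {k : B' ⟶ D} (hw : f ≫ h = g ≫ k)
    (hex : ∀ (T : C) (x : T ⟶ B) (y : T ⟶ B'), x ≫ h = y ≫ k → ∃ a : T ⟶ A, a ≫ f = x ∧ a ≫ g = y)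
    (huniq : ∀ (T : C) (a a' : T ⟶ A), a ≫ f = a' ≫ f → a ≫ g = a' ≫ g → a = a') :
    IsPullback f g h k := by
  refine ⟨⟨hw⟩, ⟨PullbackCone.IsLimit.mk _ (fun s => (hex s.pt s.fst s.snd s.condition).choose)
    (fun s => (hex s.pt s.fst s.snd s.condition).choose_spec.1)
    (fun s => (hex s.pt s.fst s.snd s.condition).choose_spec.2) fun s m h1 h2 => ?_⟩⟩
  apply huniq
  · rw [h1, (hex s.pt s.fst s.snd s.condition).choose_spec.1]
  · rw [h2, (hex s.pt s.fst s.snd s.condition).choose_spec.2]

/-- The reduced orbit of an abelian variety is an abelian variety. -/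
theorem exists_iso_orbit {A X : Over (Spec (CommRingCat.of K))} [GrpObj A] [IsProper A.hom]
    [GeometricallyIntegral A.hom] [LocallyOfFiniteType X.hom] [IsSeparated X.hom] (a : AlgGrp.Action A X)
    (x : 𝟙_ (Over (Spec (CommRingCat.of K))) ⟶ X) (Z : Over (Spec (CommRingCat.of K))) (z : Z ⟶ X)
    [IsImmersion z.left] [IsReduced Z.left] (hz : Set.range z.left = Set.range (a.orbitMap x).left) :
    ∃ (B : Over (Spec (CommRingCat.of K))) (_ : GrpObj B), IsProper B.hom ∧ Nonempty (Z ≅ B) := by
  have hx : IsClosedImmersion x.left := isClosedImmersion_pt x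
  have hA : IsIntegral A.left := by
    have : Subsingleton ↥(Spec (CommRingCat.of K)) := inferInstanceAs (Subsingleton (PrimeSpectrum K))
    exact GeometricallyIntegral.isIntegral_of_subsingleton A.hom
  obtain ⟨Go, hGo, i, hi, hicl, himono, hipts⟩ := K554.StabAff.exists_stabilizer a x
  have hpb : IsPullback i (toUnit Go) (a.orbitMap x) x := by
    refine isPullback_of_pts ?_ ?_ ?_
    · rw [K414.OrbitRed.comp_orbitMap]
      exact (hipts Go i).1 ⟨𝟙 _, Category.id_comp _⟩
    · intro T g t hgt
      rw [K414.OrbitRed.comp_orbitMap, toUnit_unique t (toUnit T)] at hgt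
      obtain ⟨h, hh⟩ := (hipts T g).2 hgt
      exact ⟨h, hh, toUnit_unique _ _⟩
    · intro T h h' h1 _
      exact (cancel_mono i).1 h1
  obtain ⟨b, y, hQ, -, -, -⟩ := K206.OrbRed.exists_isQuotient a x i hpb Z z hz
  obtain ⟨B, hB, q, hq, hqf, hqk, hBp, hBi⟩ := K508.Base.exists_quotient A Go i
  obtain ⟨q1, q2, q3⟩ := hqf
  obtain ⟨z1, z2, z3, z4⟩ := hQ
  have hlfp := Groth.Agent.Agf.H586.QuotSep.lfp_left (b.orbitMap y)
  have hR1 : RedSub.IsQuotient i (b.orbitMap y) := ⟨z3, z2, hlfp, z4⟩
  have hR2 : RedSub.IsQuotient i q := by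
    refine ⟨q2, q1, q3, ?_⟩
    have h1 := K523.KerSq.isPullback_ker i q hqk
    have h2 : (A ◁ i) ≫ μ[A] = fst A Go * (snd A Go ≫ i) := by
      rw [Hom.mul_def]
      congr 1
    rw [h2]
    exact h1
  obtain ⟨e, -⟩ := Groth.Agent.RedSub.H650.QuotPts.exists_iso hR1 hR2
  exact ⟨B, hB, hBp, ⟨e⟩⟩

variable [IsAlgClosed K]

open Groth.Agent.Grpsch Groth.Agent.Sga3C.HomogIrr K395.Transl

theorem exists_affine {P Q : Over (Spec (CommRingCat.of K))} [GrpObj P] [IsProper P.hom]
    [LocallyOfFiniteType Q.hom] [IsSeparated Q.hom] (a : AlgGrp.Action P Q)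
    (o : 𝟙_ (Over (Spec (CommRingCat.of K))) ⟶ Q) (hfl : Flat (a.orbitMap o).left)
    (hs : Surjective (a.orbitMap o).left) :
    ∃ (B : Over (Spec (CommRingCat.of K))) (_ : GrpObj B) (_ : LocallyOfFiniteType B.hom)
      (_ : QuasiCompact B.hom) (φ : Q.left ⟶ B.left), IsAffineHom φ := by
  have hPn : IsLocallyNoetherian P.left := LocallyOfFiniteType.isLocallyNoetherian P.hom
  have hQn : IsLocallyNoetherian Q.left := LocallyOfFiniteType.isLocallyNoetherian Q.hom
  have hPc : CompactSpace P.left := (quasiCompact_iff_compactSpace P.hom).1 inferInstance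
  have hQc : CompactSpace Q.left :=
    ⟨by rw [← (a.orbitMap o).left.surjective.range_eq]; exact isCompact_range (a.orbitMap o).left.continuous⟩
  have hQN : IsNoetherian Q.left := ⟨⟩
  have hjac : JacobsonSpace Q.left := LocallyOfFiniteType.jacobsonSpace (Y := Spec _) Q.hom
  have hjacP : JacobsonSpace P.left := LocallyOfFiniteType.jacobsonSpace (Y := Spec _) P.hom
  have hlfp : LocallyOfFinitePresentation (a.orbitMap o).left :=
    Groth.Agent.Agf.H586.QuotSep.lfp_left (a.orbitMap o)
  -- the abelian variety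
  obtain ⟨N0, _, i0, _, hcl0, hfl0, hr0⟩ := S3023.result K P
  have hop0 : IsOpenImmersion i0.left := by
    have hfp : LocallyOfFinitePresentation i0.left := inferInstance
    exact IsOpenImmersion.of_flat_of_mono i0.left
  obtain ⟨A, _, u, hu1, hu2, hu3, hu4, hu5⟩ := Sga3B.RedIdComp.exists_redIdComp P
  have hAp : IsProper A.hom := by rw [← Over.w u]; infer_instance
  have hAi : GeometricallyIntegral A.hom := K519.SubAV.geometricallyIntegral A
  have hAI : IsIntegral A.left := by
    have : Subsingleton ↥(Spec (CommRingCat.of K)) := inferInstanceAs (Subsingleton (PrimeSpectrum K))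
    exact GeometricallyIntegral.isIntegral_of_subsingleton A.hom
  have huo : IsOpen (Set.range u.left) := by
    rw [hu5]
    have h1 := i0.left.isOpenEmbedding.isOpen_range
    rw [hr0 (IsLocalRing.closedPoint K)] at h1
    exact h1
  -- its orbit
  let c := a.restrict u
  have hc : c.orbitMap o = u ≫ a.orbitMap o := by
    rw [K414.OrbitRed.comp_orbitMap, AlgGrp.Action.orbitMap, AlgGrp.Action.lift_restrict_act, Category.id_comp]
  let W : Set Q.left := Set.range (c.orbitMap o).left
  have hW : W = (a.orbitMap o).left '' Set.range u.left := by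
    change Set.range (c.orbitMap o).left = _
    rw [hc, Over.comp_left, Scheme.Hom.comp_base, TopCat.coe_comp, Set.range_comp]
  have hWo : IsOpen W := by
    rw [hW]
    exact (a.orbitMap o).left.isOpenMap _ huo
  have hWc : IsClosed W := by
    have : IsProper ((c.orbitMap o).left ≫ Q.hom) := by rw [Over.w]; infer_instance
    have : IsProper (c.orbitMap o).left := IsProper.of_comp _ Q.hom
    exact (c.orbitMap o).left.isClosedMap.isClosed_range
  have hWi : IsIrreducible W := by
    have h1 := (IrreducibleSpace.isIrreducible_univ A.left).image (c.orbitMap o).left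
      (c.orbitMap o).left.continuous.continuousOn
    rwa [Set.image_univ] at h1
  have hoW : o.left (IsLocalRing.closedPoint K) ∈ W := by
    refine ⟨η[A].left (IsLocalRing.closedPoint K), ?_⟩
    rw [← Scheme.Hom.comp_apply, ← Over.comp_left, K414.OrbitRed.one_orbitMap]
  -- the reduced orbit
  let Z := redSub Q ⟨W, hWc⟩
  let z : Z ⟶ Q := redSubι Q ⟨W, hWc⟩
  have hzcl : IsClosedImmersion z.left := inferInstanceAs (IsClosedImmersion (redSubι Q ⟨W, hWc⟩).left)
  have hZr : IsReduced Z.left := Ega1.ReducedSub.isReduced_subscheme_vanishingIdeal _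
  have hzr : Set.range z.left = W := range_redSubι Q ⟨W, hWc⟩
  obtain ⟨B, hB, hBp, ⟨e⟩⟩ := exists_iso_orbit c o Z z hzr
  have hBq : QuasiCompact B.hom := inferInstance
  have hBf : LocallyOfFiniteType B.hom := inferInstance
  refine ⟨B, hB, hBf, hBq, ?_⟩
  -- the open subscheme
  let V : Q.left.Opens := ⟨W, hWo⟩
  let z' : Z.left ⟶ V.toScheme := IsOpenImmersion.lift V.ι z.left (by
    rw [hzr, Scheme.Opens.range_ι]; exact le_rfl)
  have hz' : z' ≫ V.ι = z.left := IsOpenImmersion.lift_fac _ _ _
  have hVcl : IsClosedImmersion V.ι := by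
    refine .of_isPreimmersion _ ?_
    rw [Scheme.Opens.range_ι]
    exact hWc
  have hz'c : IsClosedImmersion z' := by
    have : IsClosedImmersion (z' ≫ V.ι) := by rw [hz']; infer_instance
    exact IsClosedImmersion.of_comp_isClosedImmersion _ V.ι
  have hz's : Surjective z' := by
    refine ⟨fun v => ?_⟩
    have hv : V.ι v ∈ Set.range z.left := by
      rw [hzr]
      exact v.2
    obtain ⟨y, hy⟩ := hv
    refine ⟨y, V.ι.isOpenEmbedding.injective ?_⟩
    rw [← Scheme.Hom.comp_apply, hz', hy]
  have hVn : IsLocallyNoetherian V.toScheme := inferInstance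
  have hVc : CompactSpace V.toScheme := isCompact_iff_compactSpace.1 hWc.isCompact
  have hφ0 : ∃ φ0 : V.toScheme ⟶ Z.left, IsAffineHom φ0 := by
    obtain ⟨p, hp⟩ := CharP.exists K
    rcases CharP.char_is_prime_or_zero K p with hpr | rfl
    · exact FrobSch.exists_affine_lift z' p hpr (FrobSch.natCast_eq_zero K (V.ι ≫ Q.hom) p)
    · have : CharZero K := CharP.charP_to_charZero K
      have hPs : Smooth P.hom := S0353.result K P
      have hPr : IsReduced P.left := Books.AlgPtsSmooth.isReduced_of_smooth P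
      have hQr : IsReduced Q.left := FlatB.GeomRed.isReduced_of_flat_of_surjective (a.orbitMap o).left
      have hVr : IsReduced V.toScheme := inferInstance
      have : IsIso z' := isIso_of_isClosedImmersion_of_surjective z'
      exact ⟨inv z', inferInstance⟩
  obtain ⟨φ0, hφ0⟩ := hφ0
  -- translations
  have htr : ∀ y : Q.left, IsClosed ({y} : Set Q.left) → ∃ T : Q ≅ Q, T.hom.left y ∈ W := by
    intro y hy
    have hne : ((a.orbitMap o).left ⁻¹' {y}).Nonempty := by
      obtain ⟨x, hx⟩ := (a.orbitMap o).left.surjective y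
      exact ⟨x, hx⟩
    obtain ⟨x, hx, hxc⟩ := nonempty_inter_closedPoints hne
      ((hy.preimage (a.orbitMap o).left.continuous).isLocallyClosed)
    let g := Groth.Agent.Grpsch.Transl.pt P x hxc
    refine ⟨(trIso a g).symm, ?_⟩
    have h1 : o ≫ (trIso a g).hom = g ≫ a.orbitMap o := by
      change o ≫ tr a g = _
      rw [comp_tr, K414.OrbitRed.comp_orbitMap,
        toUnit_unique (toUnit (𝟙_ (Over (Spec (CommRingCat.of K))))) (𝟙 _), Category.id_comp, Category.id_comp]
    have h2 : (trIso a g).hom.left (o.left (IsLocalRing.closedPoint K)) = y := by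
      rw [← Scheme.Hom.comp_apply, ← Over.comp_left, h1, Over.comp_left, Scheme.Hom.comp_apply,
        Groth.Agent.Grpsch.Transl.pt_apply]
      exact hx
    have h3 : (trIso a g).symm.hom.left y = o.left (IsLocalRing.closedPoint K) := by
      rw [← h2, ← Scheme.Hom.comp_apply, ← Over.comp_left, Iso.symm_hom, Iso.hom_inv_id]
      rfl
    rw [h3]
    exact hoW
  have hnhd : ∀ y : Q.left, ∃ U : Set Q.left, IsOpen U ∧ IsIrreducible U ∧ y ∈ U := by
    intro y
    obtain ⟨y0, hy0, hy0c⟩ := nonempty_inter_closedPoints (Z := closure {y}) ⟨y, subset_closure rfl⟩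
      isClosed_closure.isLocallyClosed
    obtain ⟨T, hT⟩ := htr y0 hy0c
    have hiso : IsIso T.hom.left := inferInstanceAs (IsIso ((Over.forget _).map T.hom))
    refine ⟨T.hom.left ⁻¹' W, hWo.preimage T.hom.left.continuous, ?_, ?_⟩
    · exact hWi.preimage T.hom.left.isOpenEmbedding ⟨T.hom.left y0, hT, y0, rfl⟩
    · have : y ⤳ y0 := specializes_iff_mem_closure.2 hy0
      exact this.mem_open (hWo.preimage T.hom.left.continuous) hT
  -- the components
  let I := ↥(irreducibleComponents Q.left)
  have hfin : Finite I := (TopologicalSpace.NoetherianSpace.finite_irreducibleComponents).to_subtype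
  let U : I → Q.left.Opens := fun C => ⟨C.1, Groth.Agent.Grpsch.Transl.isOpen_of_mem_components hnhd C.2⟩
  have hcov : ⨆ C, U C = ⊤ := by
    ext x
    simp only [TopologicalSpace.Opens.coe_iSup, Set.mem_iUnion, TopologicalSpace.Opens.coe_top,
      Set.mem_univ, iff_true]
    exact ⟨⟨irreducibleComponent x, irreducibleComponent_mem_irreducibleComponents x⟩,
      mem_irreducibleComponent⟩
  have hdisj : Pairwise (Function.onFun Disjoint U) := by
    intro C C' hne
    rw [Function.onFun, ← TopologicalSpace.Opens.coe_disjoint, Set.disjoint_iff_forall_ne]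
    rintro x hx _ hx' rfl
    exact hne (Subtype.ext (Groth.Agent.Grpsch.Transl.components_eq_of_mem hnhd C.2 C'.2 hx hx'))
  have hex : ∀ C : I, ∃ T : Q ≅ Q, ∀ x ∈ C.1, T.hom.left x ∈ W := by
    intro C
    obtain ⟨x, hxC, hxc⟩ := nonempty_inter_closedPoints C.2.1.1
      (isClosed_of_mem_irreducibleComponents _ C.2).isLocallyClosed
    obtain ⟨T, hT⟩ := htr x hxc
    refine ⟨T, fun y hy => ?_⟩
    have h1 : _root_.IsPreconnected (T.hom.left '' C.1) :=
      (C.2.1.2.image _ T.hom.left.continuous.continuousOn).isPreconnected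
    exact h1.subset_isClopen ⟨hWc, hWo⟩ ⟨_, ⟨x, hxC, rfl⟩, hT⟩ ⟨y, hy, rfl⟩
  choose T hT using hex
  let ψ : ∀ C : I, (U C).toScheme ⟶ V.toScheme := fun C =>
    IsOpenImmersion.lift V.ι ((U C).ι ≫ (T C).hom.left) (by
      rintro _ ⟨y, rfl⟩
      rw [Scheme.Hom.comp_apply, Scheme.Opens.range_ι]
      exact hT C _ y.2)
  have hψ : ∀ C, ψ C ≫ V.ι = (U C).ι ≫ (T C).hom.left := fun C =>
    IsOpenImmersion.lift_fac _ _ _
  obtain ⟨φ, hφ⟩ := AmpComp.exists_desc U hcov hdisj ψ
  have hφa : IsAffineHom φ := by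
    refine AmpComp.isAffineHom_of_disjoint U hcov hdisj φ fun C => ?_
    rw [hφ]
    have h1 : IsClosedImmersion (U C).ι := by
      refine .of_isPreimmersion _ ?_
      rw [Scheme.Opens.range_ι]
      exact isClosed_of_mem_irreducibleComponents _ C.2
    have h2 : IsIso (T C).hom.left := inferInstanceAs (IsIso ((Over.forget _).map (T C).hom))
    have h3 : IsClosedImmersion (ψ C ≫ V.ι) := by rw [hψ]; infer_instance
    have h4 : IsClosedImmersion (ψ C) := IsClosedImmersion.of_comp_isClosedImmersion _ V.ι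
    infer_instance
  have he : IsIso e.hom.left := inferInstanceAs (IsIso ((Over.forget _).map e.hom))
  exact ⟨φ ≫ φ0 ≫ e.hom.left, inferInstance⟩

end K554.HomogProp
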